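import Groth.Agent.IsoNatBaldLib.Basic
import Groth.Agent.S10543
import Groth.Prelude.Def_AlgSp4

/-!
# Endomorphisms of representable morphisms which are trivial on a dense open
-/

set_option autoImplicit false
set_option linter.style.haveILetI false
set_option backward.isDefEq.respectTransparency false
set_option backward.isDefEq.respectTransparency.types false

universe u

open CategoryTheory CategoryTheory.Limits AlgebraicGeometry AlgSp FibCat FibLib AlgStLib IsoNat IsoNatLib IsoNatSepLib Opposite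
open CategoryTheory.Functor (Fiber IsPreFibered IsStronglyCartesian)

noncomputable section

namespace EndIdLib

variable {S : Scheme.{u}}

/-- A stack with an etale atlas is DM over the base. -/
theorem isDMOver_of_atlas {𝒳 : AlgSt.Cat S} [IsFibGrpd 𝒳.p] (hd : AlgSt.RepByAlgSp1 (diag (toSelf 𝒳)))
    (h : AlgSt.HasAtlas IsEtaleMor 𝒳) : AlgSt.IsDMOver 𝒳 := by
  obtain ⟨U, v, hv, hvs⟩ := h
  have hw := repByAlgSpWith_toOverCat_comp hv
  refine repByAlgSpWith_diag_toSelf_of_cover good_unramified.bc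
    (isLocalOnBase_fppf_of_fpqc (Groth.Agent.S10543.result S))
    (fun _ _ _ h₁ h₂ h₃ _ _ hab => cancel_unramified h₁ h₂ h₃ hab) hd (repByAlgSp_ofSp (IsAlgSpace.yon_obj U)) _
    (repByAlgSpWith_mono (fun _ _ _ _ _ h => AlgSpLib.locP_mono (fun _ _ f (hf : Etale f) => (inferInstance : Flat f))
      (AlgSpLib.locP_etale_of_isEtaleMor h)) hw)
    (repByAlgSpWith_mono (fun _ _ _ _ _ h => AlgSpLib.locP_mono
      (fun _ _ f (hf : Etale f) => (inferInstance : LocallyOfFinitePresentation f))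
      (AlgSpLib.locP_etale_of_isEtaleMor h)) hw)
    (repByAlgSpWith_toOverCat_comp hvs)
    (repByAlgSpWith_mono (fun _ _ _ _ _ h => AlgSpLib.locP_mono
      (fun _ _ f (hf : Etale f) => ⟨inferInstance, inferInstance⟩)
      (AlgSpLib.locP_etale_of_isEtaleMor h)) hw)

/-- Two sections of a separated unramified morphism which agree on a dense set agree. -/
theorem eq_of_dense {H G : Sp S} {a : H ⟶ G} (hH : IsAlgSpace H) (hG : IsAlgSpace G)
    (hs : IsSeparatedMor a) (hu : LocP (@LocallyOfFiniteType ⊓ @FormallyUnramified) a) {U W : Over S}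
    (w : W ⟶ U) (hw : Dense (Set.range w.left)) {σ σ' : (yon S).obj U ⟶ H} (e : σ ≫ a = σ' ≫ a)
    (hW : (yon S).map w ≫ σ = (yon S).map w ≫ σ') : σ = σ' := by
  refine AlgSpLib.eq_of_range_subset_of_openImmersion
    (AlgSpLib.openImmersion_diagonal_of_unramified hH hG hu) e ?_
  obtain ⟨hrep, hcl⟩ := hs
  have sq := hrep.isPullback (pullback.lift σ σ' e)
  haveI : IsClosedImmersion (hrep.snd (pullback.lift σ σ' e)).left := hcl _ _ _ sq
  -- the dense subscheme factors through the equalizer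
  obtain ⟨n, hn⟩ := (yon S).map_surjective (sq.lift ((yon S).map w ≫ σ) ((yon S).map w) (pullback.hom_ext
    (by simp [Category.assoc]) (by simp [Category.assoc, hW])))
  have hn' : n ≫ hrep.snd (pullback.lift σ σ' e) = w := (yon S).map_injective (by
    rw [Functor.map_comp, hn, sq.lift_snd])
  have hsub : Set.range w.left ⊆ Set.range (hrep.snd (pullback.lift σ σ' e)).left := by
    rintro _ ⟨t, rfl⟩
    exact ⟨n.left t, by rw [← hn']; rfl⟩
  have htop : ∀ t : U.left, t ∈ Set.range (hrep.snd (pullback.lift σ σ' e)).left := fun t =>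
    (Scheme.Hom.isClosedEmbedding _).isClosed_range.closure_subset_iff.2 hsub (hw t)
  rintro _ ⟨z, rfl⟩
  obtain ⟨t, rfl⟩ := (Points.schemeHomeo U).surjective z
  obtain ⟨q, rfl⟩ := htop t
  refine ⟨AlgSp.Points.map (hrep.fst (pullback.lift σ σ' e)) (Points.schemeHomeo _ q), ?_⟩
  rw [← Points.map_yon_map_apply, ← AlgSp.Points.map_comp, ← AlgSp.Points.map_comp, sq.w]

section Auto

variable {𝒴 : AlgSt.Cat S} [IsFibGrpd 𝒴.p] {T : Over S} (y : 𝒴.p.Fiber T)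

/-- The object of pairs of the object `y`. -/
abbrev zz : (fp (toSelf 𝒴) (toSelf 𝒴)).p.Fiber T :=
  Fiber.mk (p := (fp (toSelf 𝒴) (toSelf 𝒴)).p) (a := (diag (toSelf 𝒴)).obj y.1)
    (((diag (toSelf 𝒴)).w_obj y.1).trans y.2)

/-- The element of the diagonal of a vertical endomorphism. -/
def elt (t : y.1 ⟶ y.1) (ht : 𝒴.p.IsHomLift (𝟙 T) t) : Elt (diag (toSelf 𝒴)) (zz y) T where
  base := 𝟙 T
  obj := y
  map := fpHom (x := (diag (toSelf 𝒴)).obj y.1) (y := (diag (toSelf 𝒴)).obj y.1) t (𝟙 y.1) (by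
    change 𝒴.p.map t ≫ 𝟙 _ = 𝟙 _ ≫ 𝒴.p.map (𝟙 y.1)
    haveI := ht
    have h0 : 𝒴.p.map t = 𝟙 _ := by simpa using IsHomLift.fac' 𝒴.p (𝟙 T) t
    rw [h0, CategoryTheory.Functor.map_id])
  lift := by
    haveI : 𝒴.p.IsHomLift (𝟙 T) (fpHom (x := (diag (toSelf 𝒴)).obj y.1) (y := (diag (toSelf 𝒴)).obj y.1) t (𝟙 y.1) (by
      change 𝒴.p.map t ≫ 𝟙 _ = 𝟙 _ ≫ 𝒴.p.map (𝟙 y.1)
      haveI := ht
      have h0 : 𝒴.p.map t = 𝟙 _ := by simpa using IsHomLift.fac' 𝒴.p (𝟙 T) t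
      rw [h0, CategoryTheory.Functor.map_id])).hom.fst := ht
    exact isHomLift_of_fst _ _

variable {y}

lemma ehom_elt {T' : Over S} {c : T' ⟶ T} {y' : 𝒴.p.Fiber T'} (u : y'.1 ⟶ y.1) (hu : 𝒴.p.IsHomLift c u)
    {t : y.1 ⟶ y.1} (ht : 𝒴.p.IsHomLift (𝟙 T) t) (e : u ≫ t = u) :
    EHom c ⟨c, y', (diag (toSelf 𝒴)).map u, fun_lift (diag (toSelf 𝒴)) hu⟩ (elt y t ht) :=
  ⟨u, hu, fp_hom_ext e (Category.comp_id u)⟩

lemma eq_id_of_ehom {t : y.1 ⟶ y.1} {ht : 𝒴.p.IsHomLift (𝟙 T) t}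
    (h : EHom (𝟙 T) (elt y t ht) (elt y (𝟙 y.1) (IsHomLift.id y.2))) : t = 𝟙 y.1 := by
  obtain ⟨k, -, hk⟩ := h
  have h₁ : k ≫ 𝟙 y.1 = t := congrArg (fun m => m.hom.fst) hk
  have h₂ : k ≫ 𝟙 y.1 = 𝟙 y.1 := congrArg (fun m => m.hom.snd) hk
  exact h₁.symm.trans h₂

/-- An automorphism which is trivial on a dense open is trivial. -/
theorem eq_id_of_dense
    (hd : AlgSt.RepByAlgSpWith (IsSeparatedMor ⊓ LocP (@LocallyOfFiniteType ⊓ @FormallyUnramified))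
      (diag (toSelf 𝒴)))
    {W : Over S} (w : W ⟶ T) (hw : Dense (Set.range w.left)) {y' : 𝒴.p.Fiber W} (u : y'.1 ⟶ y.1)
    (hu : 𝒴.p.IsHomLift w u) {t : y.1 ⟶ y.1} (ht : 𝒴.p.IsHomLift (𝟙 T) t) (e : u ≫ t = u) : t = 𝟙 y.1 := by
  haveI : IsFibGrpd (fp (toSelf 𝒴) (toSelf 𝒴)).p := isFibGrpd_fp
  obtain ⟨H, aH, hH, ⟨hs, hun⟩, -, ⟨C⟩⟩ := exists_classifier hd (zz y)
  have hid : 𝒴.p.IsHomLift (𝟙 T) (𝟙 y.1) := IsHomLift.id y.2
  refine eq_id_of_ehom (ht := ht) (C.ehom_of_eq (eq_of_dense hH (IsAlgSpace.yon_obj _) hs hun w hw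
    ((C.cls_comp (elt y t ht)).trans (C.cls_comp (elt y (𝟙 y.1) hid)).symm) ?_))
  exact (C.cls_map (ehom_elt u hu ht e)).symm.trans (C.cls_map (ehom_elt u hu hid (Category.comp_id u)))

/-- An automorphism which is trivial on a covering is trivial. -/
theorem eq_id_of_cover {P : MorphismProperty (Sp S)} (hd : AlgSt.RepByAlgSpWith P (diag (toSelf 𝒴)))
    {W : Over S} (w : W ⟶ T) (hf : Flat w.left) (hp : LocallyOfFinitePresentation w.left)
    (hs : Surjective w.left) {y' : 𝒴.p.Fiber W} (u : y'.1 ⟶ y.1)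
    (hu : 𝒴.p.IsHomLift w u) {t : y.1 ⟶ y.1} (ht : 𝒴.p.IsHomLift (𝟙 T) t) (e : u ≫ t = u) : t = 𝟙 y.1 := by
  haveI : IsFibGrpd (fp (toSelf 𝒴) (toSelf 𝒴)).p := isFibGrpd_fp
  obtain ⟨H, aH, hH, -, -, ⟨C⟩⟩ := exists_classifier hd (zz y)
  have hid : 𝒴.p.IsHomLift (𝟙 T) (𝟙 y.1) := IsHomLift.id y.2
  refine eq_id_of_ehom (ht := ht) (C.ehom_of_eq ?_)
  exact AlgSpLib.hom_ext_of_cover (κ := PUnit.{u + 1}) (fun _ => w) (fun _ => hf) (fun _ => hp)
    (fun x => ⟨⟨⟩, hs.1 x⟩) fun _ =>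
      (C.cls_map (ehom_elt u hu ht e)).symm.trans (C.cls_map (ehom_elt u hu hid (Category.comp_id u)))

end Auto

/-- Objects of algebraic spaces have no automorphisms. -/
theorem eq_id_of_repByAlgSp {𝒱 : AlgSt.Cat S} (h : AlgSt.RepByAlgSp 𝒱) {v : 𝒱.obj} (t : v ⟶ v)
    (ht : 𝒱.p.map t = 𝟙 _) : t = 𝟙 v := by
  obtain ⟨F, e, he⟩ := h
  haveI := isFibGrpd_of_repByAlgSp ⟨F, e, he⟩
  obtain ⟨⟨_, _⟩, hE⟩ := (isEquivOver_iff e).mp he
  obtain ⟨z, a, -⟩ := hE v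
  obtain ⟨m, hm⟩ := e.toFunctor.map_surjective (a.hom ≫ t ≫ a.inv)
  have hp : (AlgSt.ofSp F.obj).p.map m = 𝟙 _ := by
    have h1 := Functor.congr_hom e.w.symm m
    rw [Functor.comp_map, show e.toFunctor.map m = _ from hm, Functor.map_comp, Functor.map_comp, ht,
      Category.id_comp, ← Functor.map_comp, Iso.hom_inv_id, CategoryTheory.Functor.map_id] at h1
    simpa using h1
  have hm' : m = 𝟙 z := Stk.EltObj.hom_ext hp
  rw [hm', show e.toFunctor.map (𝟙 z) = _ from e.toFunctor.map_id z, eq_comm] at hm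
  have h2 : a.inv ≫ (a.hom ≫ t ≫ a.inv) ≫ a.hom = a.inv ≫ 𝟙 _ ≫ a.hom := by rw [hm]
  simpa using h2

theorem eq_id {𝒳 𝒴 𝒰 𝒱 : AlgSt.Cat S} [IsFibGrpd 𝒳.p] [IsFibGrpd 𝒴.p] [IsFibGrpd 𝒰.p] [IsFibGrpd 𝒱.p]
    (hA : AlgSt.HasAtlas (LocP @Smooth) 𝒳) (hB : AlgSt.HasAtlas IsEtaleMor 𝒴)
    (hΔ : AlgSt.RepByAlgSpWith IsSeparatedMor (diag (toSelf 𝒴))) (F : 𝒳 ⥤ᵇ 𝒴)
    (i : 𝒰 ⥤ᵇ 𝒳) (hi : AlgSt.IsOpenImm i) (hdense : Dense (Set.range (AlgSt.Points.map i)))
    (j : 𝒱 ⥤ᵇ 𝒴) (hj : AlgSt.IsMono j) (h𝒱 : AlgSt.RepByAlgSp 𝒱)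
    (G : 𝒰 ⥤ᵇ 𝒱) (e : BasedFunctor.comp G j ≅ BasedFunctor.comp i F) (α : F ⟶ F) : α = 𝟙 F := by
  haveI := full_of_isMono hj
  have hd : AlgSt.RepByAlgSpWith (IsSeparatedMor ⊓ LocP (@LocallyOfFiniteType ⊓ @FormallyUnramified))
      (diag (toSelf 𝒴)) :=
    repByAlgSpWith_inf good_unramified.bc.precomp_iso hΔ (isDMOver_of_atlas (repByAlgSp1_of_with hΔ) hB)
  obtain ⟨U, x, hx, hxs⟩ := hA
  -- the value of the atlas
  let z : 𝒳.p.Fiber U := Fiber.mk (p := 𝒳.p) (a := x.obj (Over.mk (𝟙 U))) (x.w_obj _)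
  obtain ⟨H, aH, hH, hrw, hal, ⟨C⟩⟩ := exists_classifier hi z
  obtain ⟨hrep, hop⟩ := id hrw
  have sq := hrep.isPullback (𝟙 ((yon S).obj U))
  haveI : IsOpenImmersion (hrep.snd (𝟙 ((yon S).obj U))).left := hop _ _ _ sq
  obtain ⟨E, hE⟩ := C.exists_elt (hrep.fst (𝟙 ((yon S).obj U)))
  have hbase : E.base = hrep.snd (𝟙 ((yon S).obj U)) := (yon S).map_injective (by
    rw [← C.cls_comp E, hE, sq.w, Category.comp_id])
  have hrange : Dense (Set.range E.base.left) := by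
    have h1 : Dense (AlgSt.Points.ofChart x ⁻¹' Set.range (AlgSt.Points.map i)) :=
      hdense.preimage (isOpenMap_ofChart_smooth x hx)
    refine Dense.mono (fun t (ht : AlgSt.Points.ofChart x t ∈ Set.range (AlgSt.Points.map i)) => ?_) h1
    obtain ⟨k⟩ := nonempty_uf_iso (BasedFunctor.comp (AlgSt.toOverCat U) x)
    obtain ⟨v, hv⟩ := preimage_image_along hal
    have h2 : Points.schemeHomeo U t ∈ ptMap (uf z) ⁻¹' (AlgSt.Points.map i '' Set.univ) := by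
      rw [Set.image_univ]
      change ptMap (uf z) (Points.schemeHomeo U t) ∈ Set.range (AlgSt.Points.map i)
      rw [show ptMap (uf z) = ptMap (BasedFunctor.comp (AlgSt.toOverCat U) x) from by
        have hk : AlgSt.Points.map (uf z) = AlgSt.Points.map (BasedFunctor.comp (AlgSt.toOverCat U) x) := map_congr k
        unfold ptMap; rw [hk]]
      exact ht
    rw [hv Set.univ, Set.preimage_univ, Set.image_univ] at h2
    obtain ⟨h, hh⟩ := h2
    haveI : IsIso (hrep.fst (𝟙 ((yon S).obj U))) := sq.isIso_fst_of_isIso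
    obtain ⟨q, hq⟩ : ∃ q, AlgSp.Points.map (hrep.fst (𝟙 ((yon S).obj U))) q = h :=
      ⟨AlgSp.Points.map (inv (hrep.fst (𝟙 ((yon S).obj U)))) h, by
        rw [← AlgSp.Points.map_comp, IsIso.inv_hom_id, AlgSp.Points.map_id]⟩
    obtain ⟨q, rfl⟩ := (Points.schemeHomeo _).surjective q
    refine ⟨q, (Points.schemeHomeo U).injective ?_⟩
    rw [hbase, ← Points.map_yon_map_apply, ← hh, ← hq, ← AlgSp.Points.map_comp, sq.w, Category.comp_id]
  -- trivial on the dense open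
  have hB0 : α.toNatTrans.app (i.obj E.obj.1) = 𝟙 _ := by
    let e₀ := (BasedNatTrans.forgetful _ _).mapIso e
    let k : j.obj (G.obj E.obj.1) ≅ F.obj (i.obj E.obj.1) := e₀.app E.obj.1
    obtain ⟨θ, hθ⟩ := j.toFunctor.map_surjective (k.hom ≫ α.toNatTrans.app (i.obj E.obj.1) ≫ k.inv)
    have ha : 𝒴.p.map (α.toNatTrans.app (i.obj E.obj.1)) = eqToHom (by rw [F.w_obj]) := by
      haveI := BasedNatTrans.isHomLift α (rfl : 𝒳.p.obj (i.obj E.obj.1) = _)
      simpa using IsHomLift.fac' 𝒴.p (𝟙 (𝒳.p.obj (i.obj E.obj.1))) (α.toNatTrans.app (i.obj E.obj.1))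
    have hp : 𝒱.p.map θ = 𝟙 _ := by
      have h1 := Functor.congr_hom j.w.symm θ
      rw [Functor.comp_map, show j.toFunctor.map θ = _ from hθ, Functor.map_comp, Functor.map_comp, ha,
        eqToHom_refl, Category.id_comp, ← Functor.map_comp, Iso.hom_inv_id, CategoryTheory.Functor.map_id] at h1
      simpa using h1
    rw [eq_id_of_repByAlgSp h𝒱 θ hp, show j.toFunctor.map (𝟙 _) = _ from j.toFunctor.map_id _, eq_comm] at hθ
    have h2 : k.inv ≫ (k.hom ≫ α.toNatTrans.app (i.obj E.obj.1) ≫ k.inv) ≫ k.hom = k.inv ≫ 𝟙 _ ≫ k.hom := by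
      rw [hθ]
    simpa using h2
  have hz : α.toNatTrans.app z.1 = 𝟙 _ := by
    refine eq_id_of_dense (y := Fiber.mk (p := 𝒴.p) (a := F.obj z.1) ((F.w_obj _).trans z.2)) hd E.base hrange
      (y' := Fiber.mk (p := 𝒴.p) (a := F.obj (i.obj E.obj.1)) ((F.w_obj _).trans ((i.w_obj _).trans E.obj.2)))
      (F.map E.map) (fun_lift F E.lift) (BasedNatTrans.isHomLift α z.2) ?_
    exact (α.toNatTrans.naturality E.map).trans ((congrArg (· ≫ F.map E.map) hB0).trans (Category.id_comp _))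
  apply BasedNatTrans.ext
  ext ξ
  let T : Over S := 𝒳.p.obj ξ
  let ξf : 𝒳.p.Fiber T := Fiber.mk (p := 𝒳.p) (a := ξ) rfl
  obtain ⟨K, aK, hK, ⟨hKs, hKsm⟩, -, ⟨D⟩⟩ :=
    exists_classifier (repByAlgSpWith_inf (good_locP @Smooth : Good (LocP @Smooth : MorphismProperty (Sp S))).bc.precomp_iso hxs hx) ξf
  obtain ⟨T', b, hb, hbs⟩ := hK.atlas
  obtain ⟨c, hc⟩ := (yon S).map_surjective (b ≫ aK)
  haveI hcs : Smooth c.left := (AlgSpLib.locP_yon_map_iff (P := @Smooth) c).1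
    (hc ▸ (good_locP @Smooth : Good (LocP @Smooth : MorphismProperty (Sp S))).comp (IsAlgSpace.yon_obj _) hK (IsAlgSpace.yon_obj _) _ _
      (AlgSpLib.locP_mono (fun _ _ f (hf : Etale f) => (inferInstance : Smooth f))
        (AlgSpLib.locP_of_repWith hb)) hKsm)
  have hsurj : Surjective c.left := ⟨fun t => by
    obtain ⟨k, hk⟩ := hKs (Points.schemeHomeo T t)
    obtain ⟨q, rfl⟩ := AlgSpLib.map_surjective_of_repWith hbs k
    obtain ⟨q, rfl⟩ := (Points.schemeHomeo T').surjective q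
    exact ⟨q, (Points.schemeHomeo T).injective (by
      rw [← Points.map_yon_map_apply, hc, AlgSp.Points.map_comp, hk])⟩⟩
  obtain ⟨E', hE'⟩ := D.exists_elt b
  have hbase' : E'.base = c := (yon S).map_injective (by rw [← D.cls_comp E', hE', hc])
  have hu : 𝒳.p.IsHomLift E'.base (E'.map : x.obj E'.obj.1 ⟶ ξ) := E'.lift
  have hX : α.toNatTrans.app (x.obj E'.obj.1) = 𝟙 _ := by
    refine eq_of_fac (fun_lift F (lift_map x (toId E'.obj.1))) (BasedNatTrans.isHomLift α (x.w_obj _))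
      (IsHomLift.id ((F.w_obj _).trans (x.w_obj _))) ?_
    exact (α.toNatTrans.naturality (x.map (toId E'.obj.1))).symm.trans ((congrArg (F.map (x.map (toId E'.obj.1)) ≫ ·) hz).trans
      ((Category.comp_id _).trans (Category.id_comp _).symm))
  refine eq_id_of_cover (y := Fiber.mk (p := 𝒴.p) (a := F.obj ξ) (F.w_obj _)) hd E'.base
    (hbase' ▸ (inferInstance : Flat c.left)) (hbase' ▸ (inferInstance : LocallyOfFinitePresentation c.left))
    (hbase' ▸ hsurj) (y' := Fiber.mk (p := 𝒴.p) (a := F.obj (x.obj E'.obj.1))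
      ((F.w_obj _).trans ((x.w_obj _).trans E'.obj.2)))
    (F.map E'.map) (fun_lift F hu) (BasedNatTrans.isHomLift α rfl) ?_
  exact (α.toNatTrans.naturality E'.map).trans ((congrArg (· ≫ F.map E'.map) hX).trans (Category.id_comp _))

end EndIdLib
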